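import Groth.Agent.CAlgSmall.DimFormulaBounds
import Groth.Agent.EGA43.DimFormula.Dedekind
import Groth.Agent.EGA43.DimFormula.Levels
import Groth.Agent.EGA43.FibDepth.Points

/-!
# Dimension of an irreducible scheme over a base, via the generic fibre
-/

set_option autoImplicit false
set_option backward.isDefEq.respectTransparency false

universe u

open CategoryTheory AlgebraicGeometry

namespace Groth.Agent.EGA4Dim6

open Groth.Agent FlatMorWeight EGA43.DimFormula

theorem le_of_add_le_add_natCast {a b : WithBot ℕ∞} (e : ℕ) (h : a + e ≤ b + e) : a ≤ b := by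
  induction a using WithBot.recBotCoe with
  | bot => exact bot_le
  | coe a =>
    induction b using WithBot.recBotCoe with
    | bot =>
      rw [WithBot.bot_add, le_bot_iff] at h
      exact absurd h (by simp [WithBot.coe_ne_bot])
    | coe b =>
      have h' : a + (e : ℕ∞) ≤ b + (e : ℕ∞) := WithBot.coe_le_coe.1 h
      exact WithBot.coe_le_coe.2 ((ENat.add_le_add_iff_right (ENat.coe_ne_top e)).1 h')

theorem iSup_add_natCast_le {ι : Sort*} (a : ι → WithBot ℕ∞) (e : ℕ) {d : WithBot ℕ∞} (hd : (e : WithBot ℕ∞) ≤ d)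
    (h : ∀ i, a i + e ≤ d) : (⨆ i, a i) + e ≤ d := by
  induction d using WithBot.recBotCoe with
  | bot => exact absurd hd (by simp)
  | coe d =>
    induction d using ENat.recTopCoe with
    | top => exact le_top
    | coe N =>
      have he : e ≤ N := by exact_mod_cast hd
      have hN : ((N : ℕ∞) : WithBot ℕ∞) = ((N - e : ℕ) : WithBot ℕ∞) + (e : WithBot ℕ∞) := by
        rw [← Nat.cast_add, Nat.sub_add_cancel he]
        rfl
      rw [hN]
      gcongr
      refine iSup_le fun i => le_of_add_le_add_natCast e ?_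
      rw [← hN]
      exact h i

variable {X Y : Scheme.{u}} (f : X ⟶ Y) [IsLocallyNoetherian Y] [LocallyOfFiniteType f]

theorem trdAt_eq_zero_of_closed_in_fibre (x : X) (h : ∀ x', f x' = f x → x ⤳ x' → x' = x) : trdAt f x = 0 := by
  haveI : LocallyOfFiniteType (f.fiberToSpecResidueField (f x)) :=
    inferInstanceAs (LocallyOfFiniteType (Limits.pullback.snd f (Y.fromSpecResidueField (f x))))
  have h0 : DimLib.ptDim (k := Y.residueField (f x)) (f.fiberToSpecResidueField (f x)) (f.asFiber x) = 0 := by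
    rw [DimLib.ptDim_eq_zero_iff]
    refine closure_subset_iff_isClosed.1 fun b hb => ?_
    have hs := (specializes_iff_mem_closure.2 hb).map (f.fiberι (f x)).continuous
    rw [f.fiberι_asFiber] at hs
    exact (f.fiberι (f x)).isEmbedding.injective
      ((h _ ((f.range_fiberι _).le ⟨b, rfl⟩) hs).trans (f.fiberι_asFiber x).symm)
  rw [EGA43.FibDepth.ptDim_fiber f, f.fiberι_asFiber] at h0
  exact h0

variable [IrreducibleSpace X] [IrreducibleSpace Y] [IsDominant f]

theorem trdAt_generic : topologicalKrullDim ↥(f.fiber (genericPoint Y)) = (trdAt f (genericPoint X) : WithBot ℕ∞) :=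
  EGA43.Chevalley.fiber_dim_eq_generic f

theorem stalk_dim_le (x : X) :
    ringKrullDim (X.presheaf.stalk x) ≤ ringKrullDim (Y.presheaf.stalk (f x)) + (trdAt f (genericPoint X) : ℕ) := by
  haveI := LocallyOfFiniteType.isLocallyNoetherian f
  have h := le_formula f (genericPoint_specializes x)
  rw [dimAt_eq_cod_of_irreducible, EGA43.Unibranch.map_genericPoint_of_isDominant f, dimAt_eq_cod_of_irreducible] at h
  rw [dimAt_eq, dimAt_eq]
  exact_mod_cast (by omega : dimAt x ≤ dimAt (f x) + trdAt f (genericPoint X))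

theorem exists_stalk_dim_eq (y : Y) (hy : y ∈ Set.range f.base)
    (hcat : CAlg.IsUniversallyCatenary (Y.presheaf.stalk y)) :
    ∃ x : X, ringKrullDim (Y.presheaf.stalk y) + (trdAt f (genericPoint X) : ℕ) ≤ ringKrullDim (X.presheaf.stalk x) := by
  haveI := LocallyOfFiniteType.isLocallyNoetherian f
  obtain ⟨z, rfl⟩ := hy
  obtain ⟨x, -, hxz, hx⟩ := exists_closed_in_fibre f z
  refine ⟨x, ?_⟩
  have h := eq_formula f (genericPoint_specializes x) (hxz ▸ hcat)
  rw [dimAt_eq_cod_of_irreducible, EGA43.Unibranch.map_genericPoint_of_isDominant f, dimAt_eq_cod_of_irreducible,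
    trdAt_eq_zero_of_closed_in_fibre f x hx] at h
  show ringKrullDim (Y.presheaf.stalk (f z)) + _ ≤ _
  rw [← hxz, dimAt_eq, dimAt_eq]
  exact_mod_cast (by omega : dimAt (f x) + trdAt f (genericPoint X) ≤ dimAt x)

theorem dim_le : topologicalKrullDim X ≤ (⨆ y ∈ Set.range f.base, ringKrullDim (Y.presheaf.stalk y)) +
    (trdAt f (genericPoint X) : ℕ) := by
  rw [DimLib.topologicalKrullDim_eq_krullDim, Order.krullDim_eq_iSup_coheight]
  refine iSup_le fun x => ?_
  refine le_trans (ringKrullDim_stalk_eq_coheight x).ge ((stalk_dim_le f x).trans ?_)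
  gcongr
  exact le_iSup₂_of_le (f x) ⟨x, rfl⟩ le_rfl

theorem stalk_dim_le_dim {Z : Scheme.{u}} (z : Z) : ringKrullDim (Z.presheaf.stalk z) ≤ topologicalKrullDim Z := by
  rw [DimLib.topologicalKrullDim_eq_krullDim, ringKrullDim_stalk_eq_coheight]
  exact Order.coheight_le_krullDim _

theorem dim_eq (hcat : ∀ y : Y, CAlg.IsUniversallyCatenary (Y.presheaf.stalk y)) :
    topologicalKrullDim X = (⨆ y ∈ Set.range f.base, ringKrullDim (Y.presheaf.stalk y)) +
      (trdAt f (genericPoint X) : ℕ) := by
  refine le_antisymm (dim_le f) ?_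
  haveI := LocallyOfFiniteType.isLocallyNoetherian f
  have hne : ((trdAt f (genericPoint X) : ℕ) : WithBot ℕ∞) ≤ topologicalKrullDim X := by
    obtain ⟨x, hx⟩ := exists_stalk_dim_eq f (f (genericPoint X)) ⟨_, rfl⟩ (hcat _)
    refine le_trans (le_trans ?_ hx) (stalk_dim_le_dim x)
    rw [dimAt_eq]
    exact_mod_cast Nat.le_add_left _ _
  rw [iSup_subtype']
  refine iSup_add_natCast_le _ _ hne fun ⟨y, hy⟩ => ?_
  obtain ⟨x, hx⟩ := exists_stalk_dim_eq f y hy (hcat y)
  exact hx.trans (stalk_dim_le_dim x)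

end Groth.Agent.EGA4Dim6
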